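import Mathlib.AlgebraicGeometry.Stalk
import Mathlib.AlgebraicGeometry.Morphisms.Preimmersion
import Mathlib.CategoryTheory.Monoidal.Cartesian.Over
import Mathlib.CategoryTheory.Monoidal.Cartesian.Mon
import Mathlib.RingTheory.Filtration
import Mathlib.Data.Nat.Choose.Dvd
import Mathlib.RingTheory.DiscreteValuationRing.Basic

/-!
# Torsion sections of a group scheme reducing to the unit section

Translation by a section `x` congruent to the unit section modulo `𝔪 ^ k` acts on the local ring at the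
unit point as `1 + Δ` with `Δ` divisible by `𝔪 ^ k`; expanding `(1 + Δ) ^ n` gives the congruences needed
to show that torsion sections reduce injectively.
-/

set_option autoImplicit false

universe u

open CategoryTheory MonoidalCategory CartesianMonoidalCategory MonObj GrpObj AlgebraicGeometry IsLocalRing

namespace Groth.Agent.NeronTors

/-- The algebraic core. -/
theorem smul_delta_mem {R O : Type u} [CommRing R] [CommRing O] [Algebra R O]
    (ε : O →ₐ[R] R) (τ : O →ₗ[R] O) (a : Ideal R) (hτ : ∀ f, τ f - f ∈ a • (⊤ : Submodule R O))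
    (n : ℕ) (hn : ∀ f, ε ((τ ^ n) f) = ε f) (J : Ideal R)
    (hJ : ∀ i, 2 ≤ i → i ≤ n → ∀ r ∈ a ^ i, (n.choose i : R) * r ∈ J) (f : O) :
    (n : R) * (ε (τ f) - ε f) ∈ J := by
  rcases Nat.eq_zero_or_pos n with h0 | h0
  · subst h0; simp
  let Δ : Module.End R O := τ - 1
  have hτΔ : τ = Δ + 1 := (sub_add_cancel _ _).symm
  have hpow : ∀ i, ∀ g : O, (Δ ^ i) g ∈ a ^ i • (⊤ : Submodule R O) := by
    intro i
    induction i with
    | zero => intro g; rw [pow_zero, pow_zero, Ideal.one_eq_top, Submodule.top_smul]; trivial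
    | succ i ih =>
      intro g
      rw [pow_succ' Δ i, Module.End.mul_apply]
      refine Submodule.smul_induction_on (ih g) (fun r hr w _ => ?_) fun u v hu hv => ?_
      · rw [map_smul, pow_succ, Submodule.mul_smul]
        exact Submodule.smul_mem_smul hr (hτ w)
      · rw [map_add]
        exact add_mem hu hv
  have hε : ∀ i, ∀ g : O, ε ((Δ ^ i) g) ∈ a ^ i := by
    intro i g
    refine Submodule.smul_induction_on (hpow i g) (fun r hr w _ => ?_) fun u v hu hv => ?_
    · rw [map_smul, smul_eq_mul]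
      exact Ideal.mul_mem_right _ _ hr
    · rw [map_add]
      exact add_mem hu hv
  have hexp : ε ((τ ^ n) f) = ∑ i ∈ Finset.range (n + 1), (n.choose i : R) * ε ((Δ ^ i) f) := by
    rw [hτΔ, (Commute.one_right Δ).add_pow, LinearMap.sum_apply, map_sum]
    refine Finset.sum_congr rfl fun i _ => ?_
    rw [one_pow, _root_.mul_one, ← (Nat.cast_commute (n.choose i) (Δ ^ i)).eq, ← nsmul_eq_mul, LinearMap.smul_apply,
      map_nsmul, nsmul_eq_mul]
  obtain ⟨m, rfl⟩ : ∃ m, n = m + 1 := ⟨n - 1, by omega⟩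
  rw [hn f, Finset.sum_range_succ', Finset.sum_range_succ', Nat.choose_zero_right, pow_zero] at hexp
  simp only [Nat.cast_one, _root_.one_mul, Module.End.one_apply, zero_add, Nat.choose_one_right, pow_one] at hexp
  have h1 : ε (Δ f) = ε (τ f) - ε f := by
    rw [← map_sub]; rfl
  rw [h1] at hexp
  have h2 : ((m + 1 : ℕ) : R) * (ε (τ f) - ε f) =
      - ∑ i ∈ Finset.range m, ((m + 1).choose (i + 1 + 1) : R) * ε ((Δ ^ (i + 1 + 1)) f) := by
    linear_combination -hexp
  rw [h2]
  refine neg_mem (sum_mem fun i hi => hJ _ (by omega) (by simp at hi; omega) _ (hε _ f))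

variable {X : Scheme.{u}}

theorem exists_lift_stalk {A : Type u} [CommRing A] [IsLocalRing A] (f : Spec (CommRingCat.of A) ⟶ X) (e : X)
    (he : f.base (closedPoint A) = e) :
    ∃ φ : X.presheaf.stalk e ⟶ CommRingCat.of A, IsLocalHom φ.hom ∧ Spec.map φ ≫ X.fromSpecStalk e = f := by
  subst he
  exact ⟨Scheme.stalkClosedPointTo f, inferInstance, Scheme.Spec_stalkClosedPointTo_fromSpecStalk _⟩

variable {R : Type u} [CommRing R] [IsLocalRing R] [IsNoetherianRing R]

/-- A torsion section reducing to the unit section is the unit section, if at each level the binomial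
congruences force one more order of vanishing. -/
theorem eq_one_aux (N : Over (Spec (CommRingCat.of R))) [GrpObj N]
    (x : 𝟙_ (Over (Spec (CommRingCat.of R))) ⟶ N) (n : ℕ) (hx : x ^ n = 1)
    (hred : x.left.base (closedPoint R) = (η[N]).left.base (closedPoint R))
    (hstep : ∀ k, 1 ≤ k → ∃ J : Ideal R,
      (∀ i, 2 ≤ i → i ≤ n → ∀ r ∈ (maximalIdeal R ^ k) ^ i, (n.choose i : R) * r ∈ J) ∧
      ∀ d : R, (n : R) * d ∈ J → d ∈ maximalIdeal R ^ (k + 1))
    (O : CommRingCat.{u}) [IsLocalRing O] (j : Spec O ⟶ N.left) [Mono j] (e0 : N.left)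
    (he0 : (η[N]).left.base (closedPoint R) = e0) (hjc : j.base (closedPoint O) = e0)
    (hlift : ∀ (A : CommRingCat.{u}) [IsLocalRing A] (f : Spec A ⟶ N.left), f.base (closedPoint A) = e0 →
      ∃ φ : O ⟶ A, IsLocalHom φ.hom ∧ Spec.map φ ≫ j = f) :
    x = 1 := by
  obtain ⟨φ0, hφ0⟩ : ∃ φ0, Spec.map φ0 = j ≫ N.hom := ⟨Spec.preimage _, Spec.map_preimage _⟩
  have hunit : ∀ y : 𝟙_ (Over (Spec (CommRingCat.of R))) ⟶ N, y.left ≫ N.hom = 𝟙 _ := fun y => Over.w y
  obtain ⟨ε, hεl, hε⟩ : ∃ ε : O ⟶ CommRingCat.of R,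
      IsLocalHom ε.hom ∧ Spec.map ε ≫ j = (η[N]).left := hlift (CommRingCat.of R) (η[N]).left he0
  obtain ⟨χ, hχl, hχ⟩ : ∃ χ : O ⟶ CommRingCat.of R,
      IsLocalHom χ.hom ∧ Spec.map χ ≫ j = x.left := hlift (CommRingCat.of R) x.left (hred.trans he0)
  have hsec : ∀ ρ : O ⟶ CommRingCat.of R,
      ∀ y : 𝟙_ (Over (Spec (CommRingCat.of R))) ⟶ N, Spec.map ρ ≫ j = y.left → φ0 ≫ ρ = 𝟙 _ := by
    intro ρ y hρ
    apply Spec.map_injective
    rw [Spec.map_comp, hφ0, reassoc_of% hρ, hunit, Spec.map_id]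
    rfl
  have hεφ := hsec ε _ hε
  have hχφ := hsec χ _ hχ
  algebraize [φ0.hom]
  let εA : O →ₐ[R] R :=
    { ε.hom with commutes' := fun r => congr($hεφ r) }
  -- the base object and its map to `N`
  let J0 : Over (Spec (CommRingCat.of R)) := Over.mk (j ≫ N.hom)
  let jO : J0 ⟶ N := Over.homMk j
  let g : J0 ⟶ N := jO * (toUnit J0 ≫ x)
  -- congruence of translation
  have hcong : ∀ (a : Ideal R), (∀ f, χ.hom f - ε.hom f ∈ a) →
      Spec.map (CommRingCat.ofHom (Ideal.Quotient.mk (a.map φ0.hom))) ≫ g.left =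
        Spec.map (CommRingCat.ofHom (Ideal.Quotient.mk (a.map φ0.hom))) ≫ j := by
    intro a ha
    let q := CommRingCat.ofHom (Ideal.Quotient.mk (a.map φ0.hom))
    let T : Over (Spec (CommRingCat.of R)) := Over.mk (Spec.map q ≫ j ≫ N.hom)
    let iT : T ⟶ J0 := Over.homMk (Spec.map q)
    have h1 : toUnit T ≫ x = 1 := by
      rw [Hom.one_def]
      apply Over.OverMorphism.ext
      show (Spec.map q ≫ j ≫ N.hom) ≫ x.left = (Spec.map q ≫ j ≫ N.hom) ≫ (η[N]).left
      rw [← hφ0, ← hχ, ← hε, ← Spec.map_comp, ← Spec.map_comp_assoc, ← Spec.map_comp_assoc]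
      congr 2
      ext f
      show Ideal.Quotient.mk _ (φ0.hom (χ.hom f)) = Ideal.Quotient.mk _ (φ0.hom (ε.hom f))
      rw [Ideal.Quotient.eq, ← map_sub]
      exact Ideal.mem_map_of_mem _ (ha f)
    have h2 : iT ≫ g = iT ≫ jO := by
      rw [MonObj.comp_mul, ← Category.assoc, toUnit_unique (iT ≫ toUnit J0) (toUnit T), h1, _root_.mul_one]
    exact congrArg (fun φ : T ⟶ N => φ.left) h2
  have h1 : ∀ f, χ.hom f - ε.hom f ∈ maximalIdeal R := by
    intro f
    have h0 : ε.hom (f - φ0.hom (ε.hom f)) = 0 := by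
      rw [map_sub, show ε.hom (φ0.hom (ε.hom f)) = ε.hom f from congr($hεφ (ε.hom f)), sub_self]
    have h0' : ¬ IsUnit (f - φ0.hom (ε.hom f)) := fun h => by
      have := h.map ε.hom
      rw [h0] at this
      exact not_isUnit_zero this
    have h3 : χ.hom (f - φ0.hom (ε.hom f)) = χ.hom f - ε.hom f := by
      rw [map_sub, show χ.hom (φ0.hom (ε.hom f)) = ε.hom f from congr($hχφ (ε.hom f))]
    rw [← h3]
    exact fun h => h0' (hχl.map_nonunit _ h)
  have hle : (maximalIdeal R).map φ0.hom ≤ (maximalIdeal R).comap ε.hom := by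
    rw [Ideal.map_le_iff_le_comap, Ideal.comap_comap]
    intro r hr
    rw [Ideal.mem_comap]
    rwa [show (ε.hom.comp φ0.hom) r = r from congr($hεφ r)]
  haveI : Nontrivial (O ⧸ (maximalIdeal R).map φ0.hom) :=
    Ideal.Quotient.nontrivial_iff.mpr fun h => (Ideal.IsPrime.comap ε.hom (K := maximalIdeal R)).ne_top
      (top_le_iff.mp (h ▸ hle))
  haveI : IsLocalRing (O ⧸ (maximalIdeal R).map φ0.hom) :=
    .of_surjective' _ Ideal.Quotient.mk_surjective
  haveI : IsLocalHom (Ideal.Quotient.mk ((maximalIdeal R).map φ0.hom)) :=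
    IsLocalHom.of_surjective _ Ideal.Quotient.mk_surjective
  have hgcl : g.left.base (closedPoint (O)) = e0 := by
    have h2 := congrArg (fun φ : _ ⟶ N.left => φ.base (closedPoint _)) (hcong _ h1)
    have h3 : (Spec.map (CommRingCat.ofHom (Ideal.Quotient.mk ((maximalIdeal R).map φ0.hom)))).base (closedPoint _) =
        closedPoint (O) := comap_closedPoint _
    exact (congrArg (fun z => g.left.base z) h3).symm.trans
      (Eq.trans h2 ((congrArg (fun z => j.base z) h3).trans hjc))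
  obtain ⟨τ, -, hτ⟩ : ∃ τ : O ⟶ O,
      IsLocalHom τ.hom ∧ Spec.map τ ≫ j = g.left := hlift O g.left hgcl
  have hτφ : φ0 ≫ τ = φ0 := by
    apply Spec.map_injective
    rw [Spec.map_comp, hφ0, reassoc_of% hτ]
    exact Over.w g
  let τA : O →ₗ[R] O :=
    { toFun := τ.hom
      map_add' := map_add _
      map_smul' := fun r f => by
        rw [RingHom.id_apply, Algebra.smul_def, Algebra.smul_def, map_mul]
        congr 1
        exact congr($hτφ r) }
  let τJ : J0 ⟶ J0 := Over.homMk (Spec.map τ) (by show Spec.map τ ≫ j ≫ N.hom = _; rw [reassoc_of% hτ]; exact Over.w g)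
  have hτJ : τJ ≫ jO = g := Over.OverMorphism.ext hτ
  have hpow : ∀ i, ∃ (ρ : O ⟶ CommRingCat.of R),
      Spec.map ρ ≫ j = (x ^ i).left ∧ ∀ f, ρ.hom f = ε.hom ((τA ^ i) f) := by
    intro i
    induction i with
    | zero => exact ⟨ε, by rw [pow_zero, ← MonObj.one_eq_one]; exact hε, fun f => rfl⟩
    | succ i ih =>
      obtain ⟨ρ, hρ, hρf⟩ := ih
      refine ⟨τ ≫ ρ, ?_, fun f => ?_⟩
      · let s : 𝟙_ (Over (Spec (CommRingCat.of R))) ⟶ J0 := Over.homMk (Spec.map ρ)
          (by show Spec.map ρ ≫ j ≫ N.hom = _; rw [reassoc_of% hρ]; exact Over.w (x ^ i))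
        have hs : s ≫ jO = x ^ i := Over.OverMorphism.ext hρ
        have : s ≫ g = x ^ (i + 1) := by
          rw [MonObj.comp_mul, hs, ← Category.assoc, toUnit_unique (s ≫ toUnit J0) (𝟙 _), Category.id_comp, pow_succ]
        rw [← this, ← hτJ, Spec.map_comp, Category.assoc]
        rfl
      · rw [pow_succ, Module.End.mul_apply]
        exact hρf _
  have hev : ∀ i, ∀ ρ : O ⟶ CommRingCat.of R, Spec.map ρ ≫ j = (x ^ i).left →
      ∀ f, ε.hom ((τA ^ i) f) = ρ.hom f := by
    intro i ρ hρ f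
    obtain ⟨ρ', hρ', hρf⟩ := hpow i
    rw [← hρf, Spec.map_injective ((cancel_mono j).mp (hρ'.trans hρ.symm))]
  have hn : ∀ f, εA ((τA ^ n) f) = εA f := fun f => hev n ε (by rw [hx, ← MonObj.one_eq_one]; exact hε) f
  have hone : ∀ f, ε.hom (τ.hom f) = χ.hom f := fun f => by
    have := hev 1 χ (by rw [pow_one]; exact hχ) f
    rwa [pow_one] at this
  have main : ∀ k, ∀ f, χ.hom f - ε.hom f ∈ maximalIdeal R ^ (k + 1) := by
    intro k
    induction k with
    | zero => simpa using h1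
    | succ k ih =>
      intro f
      obtain ⟨J, hJ, hJd⟩ := hstep (k + 1) (by omega)
      apply hJd
      rw [← hone]
      refine smul_delta_mem εA τA (maximalIdeal R ^ (k + 1)) (fun f => ?_) n hn J hJ f
      have h2 : τ ≫ CommRingCat.ofHom (Ideal.Quotient.mk ((maximalIdeal R ^ (k + 1)).map φ0.hom)) =
          CommRingCat.ofHom (Ideal.Quotient.mk ((maximalIdeal R ^ (k + 1)).map φ0.hom)) := by
        apply Spec.map_injective
        rw [← cancel_mono j, Spec.map_comp, Category.assoc, hτ]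
        exact hcong _ ih
      rw [Ideal.smul_top_eq_map, Submodule.restrictScalars_mem]
      exact Ideal.Quotient.eq.mp congr($h2 f)
  have hχε : χ = ε := by
    ext f
    have : χ.hom f - ε.hom f ∈ (⨅ k : ℕ, maximalIdeal R ^ k) := Submodule.mem_iInf _ |>.mpr fun k =>
      Ideal.pow_le_pow_right (Nat.le_succ k) (main k f)
    rw [Ideal.iInf_pow_eq_bot_of_isLocalRing _ (maximalIdeal.isMaximal R).ne_top, Ideal.mem_bot, sub_eq_zero] at this
    exact this
  rw [← MonObj.one_eq_one]
  apply Over.OverMorphism.ext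
  rw [← hχ, hχε, hε]

/-- A torsion section reducing to the unit section is the unit section, if at each level the binomial
congruences force one more order of vanishing. -/
theorem eq_one_of_pow_eq_one (N : Over (Spec (CommRingCat.of R))) [GrpObj N]
    (x : 𝟙_ (Over (Spec (CommRingCat.of R))) ⟶ N) (n : ℕ) (hx : x ^ n = 1)
    (hred : x.left.base (closedPoint R) = (η[N]).left.base (closedPoint R))
    (hstep : ∀ k, 1 ≤ k → ∃ J : Ideal R,
      (∀ i, 2 ≤ i → i ≤ n → ∀ r ∈ (maximalIdeal R ^ k) ^ i, (n.choose i : R) * r ∈ J) ∧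
      ∀ d : R, (n : R) * d ∈ J → d ∈ maximalIdeal R ^ (k + 1)) :
    x = 1 :=
  eq_one_aux N x n hx hred hstep (N.left.presheaf.stalk ((η[N]).left.base (closedPoint R)))
    (N.left.fromSpecStalk _) _ rfl Scheme.fromSpecStalk_closedPoint
    fun A _ f hf => exists_lift_stalk (A := A) f _ hf

end Groth.Agent.NeronTors

namespace Groth.Agent.NeronTors

variable {R : Type u} [CommRing R] [IsLocalRing R] [IsNoetherianRing R]

theorem eq_one_of_pow_unit (N : Over (Spec (CommRingCat.of R))) [GrpObj N]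
    (x : 𝟙_ (Over (Spec (CommRingCat.of R))) ⟶ N) (n : ℕ) (hu : IsUnit (n : R)) (hx : x ^ n = 1)
    (hred : x.left.base (closedPoint R) = (η[N]).left.base (closedPoint R)) : x = 1 := by
  refine eq_one_of_pow_eq_one N x n hx hred fun k hk => ⟨maximalIdeal R ^ (k + 1), fun i hi _ r hr => ?_,
    fun d hd => (Ideal.unit_mul_mem_iff_mem _ hu).mp hd⟩
  rw [← pow_mul] at hr
  refine Ideal.mul_mem_left _ _ (Ideal.pow_le_pow_right ?_ hr)
  nlinarith

/-- The map on closed points is unchanged by powers of a section reducing to the unit. -/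
theorem pow_base_closedPoint (N : Over (Spec (CommRingCat.of R))) [GrpObj N]
    (x : 𝟙_ (Over (Spec (CommRingCat.of R))) ⟶ N)
    (hred : x.left.base (closedPoint R) = (η[N]).left.base (closedPoint R)) (n : ℕ) :
    (x ^ n).left.base (closedPoint R) = (η[N]).left.base (closedPoint R) := by
  obtain ⟨ε, hεl, hε⟩ := exists_lift_stalk (A := R) (η[N]).left _ rfl
  obtain ⟨χ, hχl, hχ⟩ := exists_lift_stalk (A := R) x.left _ hred
  have hid : ∀ y : 𝟙_ (Over (Spec (CommRingCat.of R))) ⟶ N, y.left ≫ N.hom = 𝟙 _ := fun y => Over.w y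
  let κ := CommRingCat.ofHom (residue R)
  let T : Over (Spec (CommRingCat.of R)) := Over.mk (Spec.map κ)
  let t : T ⟶ 𝟙_ (Over (Spec (CommRingCat.of R))) := Over.homMk (Spec.map κ) (Category.comp_id _)
  have h1 : t ≫ x = 1 := by
    rw [Hom.one_def, toUnit_unique (toUnit T) t]
    apply Over.OverMorphism.ext
    show Spec.map κ ≫ x.left = Spec.map κ ≫ (η[N]).left
    refine (congrArg (Spec.map κ ≫ ·) hχ.symm).trans (Eq.trans ?_ (congrArg (Spec.map κ ≫ ·) hε))
    show Spec.map κ ≫ Spec.map χ ≫ _ = Spec.map κ ≫ Spec.map ε ≫ _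
    rw [← Spec.map_comp_assoc, ← Spec.map_comp_assoc]
    congr 2
    ext f
    obtain ⟨φ0, hφ0⟩ : ∃ φ0, Spec.map φ0 = N.left.fromSpecStalk ((η[N]).left.base (closedPoint R)) ≫ N.hom :=
      ⟨Spec.preimage _, Spec.map_preimage _⟩
    have hs : ∀ ρ, ∀ y : 𝟙_ (Over (Spec (CommRingCat.of R))) ⟶ N,
        Spec.map ρ ≫ N.left.fromSpecStalk _ = y.left → φ0 ≫ ρ = 𝟙 _ := fun ρ y hρ => by
      apply Spec.map_injective
      rw [Spec.map_comp, hφ0, reassoc_of% hρ, hid, Spec.map_id]
      rfl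
    have e1 : φ0 ≫ ε = 𝟙 _ := hs ε _ hε
    have e2 : φ0 ≫ χ = 𝟙 _ := hs χ _ hχ
    show residue R (χ.hom f) = residue R (ε.hom f)
    have h0 : ε.hom (f - φ0.hom (ε.hom f)) = 0 := by
      rw [map_sub, show ε.hom (φ0.hom (ε.hom f)) = ε.hom f from congr($e1 (ε.hom f)), sub_self]
    have h0' : ¬ IsUnit (f - φ0.hom (ε.hom f)) := fun h => by
      have := h.map ε.hom
      rw [h0] at this
      exact not_isUnit_zero this
    have h3 : χ.hom (f - φ0.hom (ε.hom f)) = χ.hom f - ε.hom f := by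
      rw [map_sub, show χ.hom (φ0.hom (ε.hom f)) = ε.hom f from congr($e2 (ε.hom f))]
    rw [← sub_eq_zero, ← map_sub, residue_eq_zero_iff, ← h3]
    exact fun h => h0' (hχl.map_nonunit _ h)
  have h2 : t ≫ x ^ n = t ≫ (η[N]) := by
    rw [MonObj.comp_pow, h1, one_pow, MonObj.one_eq_one, MonObj.comp_one]
  have h3 := congr((Over.Hom.left $h2).base (closedPoint (ResidueField R)))
  have h4 : (Spec.map κ).base (closedPoint (ResidueField R)) = closedPoint R := comap_closedPoint (residue R)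
  exact (congrArg (fun z => (x ^ n).left.base z) h4).symm.trans
    (Eq.trans h3 (congrArg (fun z => (η[N]).left.base z) h4))

theorem eq_one_of_pow_prime_small (N : Over (Spec (CommRingCat.of R))) [GrpObj N] [IsDomain R]
    [IsDiscreteValuationRing R]
    (x : 𝟙_ (Over (Spec (CommRingCat.of R))) ⟶ N) (p : ℕ) (hp : p.Prime)
    (hv : (p : R) ∉ maximalIdeal R ^ (p - 1)) (hx : x ^ p = 1)
    (hred : x.left.base (closedPoint R) = (η[N]).left.base (closedPoint R)) : x = 1 := by
  have hp0 : (p : R) ≠ 0 := fun h => hv (h ▸ zero_mem _)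
  obtain ⟨π, hπ⟩ := IsDiscreteValuationRing.exists_irreducible R
  have hm : maximalIdeal R = Ideal.span {π} := hπ.maximalIdeal_eq
  obtain ⟨v, u, hu⟩ := IsDiscreteValuationRing.eq_unit_mul_pow_irreducible hp0 hπ
  have hspan : ∀ (j : ℕ), maximalIdeal R ^ j = Ideal.span {π ^ j} := fun j => by
    rw [hm, Ideal.span_singleton_pow]
  have hvp : v < p - 1 := by
    by_contra h
    apply hv
    rw [hspan, Ideal.mem_span_singleton, hu]
    exact Dvd.dvd.mul_left (pow_dvd_pow π (not_lt.mp h)) _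
  refine eq_one_of_pow_eq_one N x p hx hred fun k hk => ⟨maximalIdeal R ^ (v + k + 1), fun i hi hip r hr => ?_, ?_⟩
  · rw [← pow_mul] at hr
    rcases hip.eq_or_lt with rfl | hlt
    · refine Ideal.mul_mem_left _ _ (Ideal.pow_le_pow_right ?_ hr)
      obtain ⟨m, rfl⟩ : ∃ m, k = m + 1 := ⟨k - 1, by omega⟩
      have h2 : v + 2 ≤ i := by omega
      nlinarith [Nat.le_mul_of_pos_right m (by omega : 0 < i)]
    · obtain ⟨c, hc⟩ := Nat.Prime.dvd_choose_self hp (by omega) hlt
      rw [hc, Nat.cast_mul, _root_.mul_assoc, hu, _root_.mul_assoc]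
      refine Ideal.mul_mem_left _ _ ?_
      rw [show v + k + 1 = v + (k + 1) by omega, pow_add]
      refine Ideal.mul_mem_mul (by rw [hspan]; exact Ideal.mem_span_singleton_self _)
        (Ideal.mul_mem_left _ _ (Ideal.pow_le_pow_right ?_ hr))
      nlinarith
  · intro d hd
    rw [hspan, Ideal.mem_span_singleton] at hd ⊢
    rw [hu, _root_.mul_assoc, Units.dvd_mul_left, show v + k + 1 = v + (k + 1) by omega, pow_add] at hd
    exact (mul_dvd_mul_iff_left (pow_ne_zero v hπ.ne_zero)).mp hd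

/-- All torsion reduces injectively when the absolute ramification is small. -/
theorem eq_one_of_pow_small (N : Over (Spec (CommRingCat.of R))) [GrpObj N] [IsDomain R]
    [IsDiscreteValuationRing R] (p : ℕ) (hp : p.Prime) (hchar : ∀ n : ℕ, ¬ p ∣ n → IsUnit (n : R))
    (hv : (p : R) ∉ maximalIdeal R ^ (p - 1)) (n : ℕ) :
    ∀ x : 𝟙_ (Over (Spec (CommRingCat.of R))) ⟶ N, 0 < n → x ^ n = 1 →
      x.left.base (closedPoint R) = (η[N]).left.base (closedPoint R) → x = 1 := by
  induction n using Nat.strong_induction_on with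
  | _ n ih =>
    intro x hn hx hred
    by_cases hd : p ∣ n
    · obtain ⟨m, rfl⟩ := hd
      have hm : 0 < m := Nat.pos_of_ne_zero fun h => by simp [h] at hn
      have h1 : (x ^ m) = 1 := eq_one_of_pow_prime_small N (x ^ m) p hp hv
        (by rw [← pow_mul, mul_comm, hx]) (pow_base_closedPoint N x hred m)
      exact ih m (lt_mul_of_one_lt_left hm hp.one_lt) x hm h1 hred
    · exact eq_one_of_pow_unit N x n (hchar n hd) hx hred

theorem isUnit_natCast_of_not_dvd (p : ℕ) [CharP (ResidueField R) p] (n : ℕ) (hn : ¬ p ∣ n) : IsUnit (n : R) := by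
  by_contra h
  apply hn
  rw [← CharP.cast_eq_zero_iff (ResidueField R) p, ← map_natCast (residue R), residue_eq_zero_iff]
  exact h

end Groth.Agent.NeronTors
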